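import Cfsg.Agent.Lib.SLM.EL1
import Cfsg.Agent.Lib.TV.Eight
import Cfsg.Agent.Lib.H81.ElationPSL

/-! Unitriangular Sylow 2-subgroups, package EL2: see `blueprint/SLM/README.md`. -/

set_option autoImplicit false
set_option linter.unusedSectionVars false

namespace H46.Sl
open Subgroup H69 Cfsg Matrix
open scoped commutatorElement

variable {G : Type*} [Group G] [Finite G] {S E P M : Subgroup G}

section el2
open Module H81 H55.Tv

variable {V W : Subgroup G} {q n : ℕ} {K : Type*} [Field K] {κ : Type*} [Fintype κ] [DecidableEq κ]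
  {ψ : (κ → K) → Pt V W} {A B : Matrix κ κ K} {u w w' : κ → K} {a b d g : G}

theorem EL2_sq (h : Geo V W q n) (x : Pt V W) (ha : a ∈ x.1) : a * a = 1 := by
  obtain ⟨g, -, e⟩ := x.2
  rw [e, mem_cj'] at ha
  obtain ⟨v, hv, rfl⟩ := ha
  calc g * v * g⁻¹ * (g * v * g⁻¹) = g * (v * v) * g⁻¹ := by group
    _ = 1 := by rw [h.sq v hv]; group

theorem EL2_smul_eq {g : (𝐍(V) ⊔ 𝐍(W) : Subgroup G)} {x y : Pt V W} :
    g • x = y ↔ x.1 ^ᶜ (g : G) = y.1 := Subtype.ext_iff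

theorem EL2_nsr (h : Geo V W q n) (hq : 1 < q ^ n) :
    ∃ x y : Pt V W, x ≠ y ∧ ∃ z ∈ x.1, z ≠ 1 ∧ z ∈ 𝐍(y.1) := by
  obtain ⟨x, y, ne, e, k⟩ := h.pair
  rw [← k, Finite.one_lt_card_iff_nontrivial, nontrivial_iff_exists_ne_one] at hq
  obtain ⟨z, hz, z1⟩ := hq
  exact ⟨x, y, ne, z, by rw [e]; exact hz.1, z1, hz.2⟩

/-- The elation groups. -/
def EL2_elat (h : Geo V W q n) (hq : 1 < q ^ n) :
    H81.Elat (𝐍(V) ⊔ 𝐍(W) : Subgroup G) (Pt V W) 2 where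
  N x := x.1.subgroupOf _
  conj g _ _ hn := cj_mem (g : G) hn
  fix hn := EL2_smul_eq.2 (cj_eq_of_mem hn)
  comm := fun {x a b} ha hb => by
    have h1 : (a : G) * a = 1 := EL2_sq h x ha
    have h2 : (b : G) * b = 1 := EL2_sq h x hb
    have h3 := EL2_sq h x (mul_mem ha hb : (a : G) * b ∈ x.1)
    refine Subtype.ext ?_
    calc (a : G) * b = a * ((a : G) * b * (a * b)) * b := by rw [h3, mul_one]
      _ = ((a : G) * a) * (b * a) * (b * b) := by simp only [mul_assoc]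
      _ = b * a := by rw [h1, h2, one_mul, mul_one]
  pgrp x := isPGroup_subgroupOf
    (fun a => ⟨1, Subtype.ext (by rw [pow_one, pow_two]; exact EL2_sq h x a.2)⟩) _
  two := h.two'
  faith := h.faith
  nsr := by
    obtain ⟨x, y, ne, z, hz, z1, hz'⟩ := EL2_nsr h hq
    exact ⟨x, y, ne, ⟨z, x.le hz⟩, hz, fun e => z1 (congrArg Subtype.val e),
      EL2_smul_eq.2 (cj_eq_self_iff.2 hz')⟩

/-- `g` acts on the points as the matrix `A`. -/
def EL2_Rp (ψ : (κ → K) → Pt V W) (g : G) (A : Matrix κ κ K) : Prop :=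
  ∃ hg : g ∈ 𝐍(V) ⊔ 𝐍(W), ∀ v, v ≠ 0 →
    A *ᵥ v ≠ 0 ∧ ψ (A *ᵥ v) = (⟨g, hg⟩ : (𝐍(V) ⊔ 𝐍(W) : Subgroup G)) • ψ v

theorem EL2_one : EL2_Rp ψ 1 1 := ⟨one_mem _, fun v hv => by
  rw [one_mulVec]; exact ⟨hv, (one_smul (𝐍(V) ⊔ 𝐍(W) : Subgroup G) _).symm⟩⟩

theorem EL2_Rp.mul (k : EL2_Rp ψ a A) (k' : EL2_Rp ψ b B) : EL2_Rp ψ (a * b) (A * B) := by
  obtain ⟨ha, k⟩ := k
  obtain ⟨hb, k'⟩ := k'
  refine ⟨mul_mem ha hb, fun v hv => ?_⟩
  rw [← mulVec_mulVec, (k _ (k' v hv).1).2, (k' v hv).2, ← mul_smul]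
  exact ⟨(k _ (k' v hv).1).1, rfl⟩

theorem EL2_nz (e : w ⬝ᵥ u = 0) {v : κ → K} (hv : v ≠ 0) : (1 + u ⊠ w) *ᵥ v ≠ 0 := fun k => by
  rw [add_mulVec, one_mulVec, tv_mulVec] at k
  have := congrArg (w ⬝ᵥ ·) k
  simp only [dotProduct_add, dotProduct_smul, e, smul_zero, add_zero, dotProduct_zero] at this
  exact hv (by simpa [this] using k)

variable {h : Geo V W q n} {hq : 1 < q ^ n} (c : IsCoord (EL2_elat h hq).Col K ψ)
include c

theorem EL2_uniq (k : EL2_Rp ψ a A) (k' : EL2_Rp ψ b A) : a = b := by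
  obtain ⟨ha, k⟩ := k
  obtain ⟨hb, k'⟩ := k'
  refine congrArg Subtype.val (inv_mul_eq_one.1
    (h.faith (g := ⟨a, ha⟩⁻¹ * ⟨b, hb⟩) fun x => ?_))
  obtain ⟨v, hv, rfl⟩ := c.surj x
  rw [mul_smul, ← (k' v hv).2, (k v hv).2, inv_smul_smul]

theorem EL2_inj (k : EL2_Rp ψ a A) (k' : EL2_Rp ψ a B) : ∃ c : K, A = c • B := by
  obtain ⟨ha, k⟩ := k
  obtain ⟨hb, k'⟩ := k'
  have u : IsUnit B := mulVec_injective_iff_isUnit.1
    ((injective_iff_map_eq_zero B.mulVecLin).2 fun v e => by_contra fun hv => (k' v hv).1 e)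
  rw [isUnit_iff_isUnit_det] at u
  obtain ⟨s, hs⟩ := LinearMap.exists_eq_smul_id_of_forall_notLinearIndependent
    (f := (B⁻¹ * A).mulVecLin) fun v => by
      by_cases hv : v = 0
      · simp [hv, linearIndependent_fin2]
      obtain ⟨s, hs⟩ := (c.eq_iff (k v hv).1 (k' v hv).1).1 ((k v hv).2.trans (k' v hv).2.symm)
      refine fun e => (LinearIndependent.pair_iff' hv).1 e s ?_
      rw [mulVecLin_apply, ← mulVec_mulVec, ← hs, mulVec_smul, mulVec_mulVec, nonsing_inv_mul _ u,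
        one_mulVec]
  refine ⟨s, mat_ext fun v => ?_⟩
  have := congrArg (B *ᵥ ·) (LinearMap.congr_fun hs v)
  simpa [mul_nonsing_inv_cancel_left _ _ u, mulVec_smul, smul_mulVec] using this

theorem EL2_ex (hu : u ≠ 0) (e : w ⬝ᵥ u = 0) : ∃ d ∈ (ψ u).1, EL2_Rp ψ d (1 + u ⊠ w) := by
  obtain ⟨t, ht, k⟩ := Elat.exists_of_transv c hu e
  exact ⟨t, ht, t.2, fun v hv => ⟨EL2_nz e hv, by rw [k v hv, add_mulVec, one_mulVec, tv_mulVec]⟩⟩

theorem EL2_of (hu : u ≠ 0) (hd : d ∈ (ψ u).1) : ∃ w, w ⬝ᵥ u = 0 ∧ EL2_Rp ψ d (1 + u ⊠ w) := by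
  obtain ⟨w, e, k⟩ := Elat.exists_transv c hu (τ := ⟨d, (ψ u).le hd⟩) hd
  exact ⟨w, e, _, fun v hv => ⟨EL2_nz e hv, by rw [k v hv, add_mulVec, one_mulVec, tv_mulVec]⟩⟩

theorem EL2_tv (hu : u ≠ 0) (e : w ⬝ᵥ u = 0) (e' : w' ⬝ᵥ u = 0) (k : EL2_Rp ψ d (1 + u ⊠ w))
    (k' : EL2_Rp ψ d (1 + u ⊠ w')) : w = w' := by
  obtain ⟨s, hs⟩ := EL2_inj c k k'
  have := congrArg (· *ᵥ u) hs
  simp only [smul_mulVec, add_mulVec, one_mulVec, tv_mulVec, e, e', zero_smul, add_zero] at this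
  rw [smul_left_injective K hu (this.symm.trans (one_smul K u).symm), one_smul] at hs
  exact tv_inj_right hu (add_left_cancel hs)

theorem EL2_char : CharP K 2 := by
  obtain ⟨x, -, -, z, hz, z1, -⟩ := EL2_nsr h hq
  obtain ⟨u, hu, rfl⟩ := c.surj x
  obtain ⟨w, hw, k⟩ := EL2_of c hu hz
  have k1 : EL2_Rp ψ 1 (1 + u ⊠ 0) := by simpa using EL2_one
  refine CharTwo.of_one_ne_zero_of_two_eq_zero one_ne_zero (by_contra fun h2 => z1 ?_)
  have := EL2_tv c hu (w := (2 : K) • w) (by simp [hw]) (by simp) (by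
    simpa [add_mul, mul_add, tv_tv0 hw, EL2_sq h _ hz, two_smul, vecMulVec_add, add_assoc]
      using k.mul k) k1
  exact EL2_uniq c k ((smul_eq_zero_iff_right h2).1 this ▸ k1)

variable [CharP K 2] [Finite K]

/-- The linear group. -/
def EL2_ln : Ln G K κ where
  M := 𝐍(V) ⊔ 𝐍(W)
  D := {d | ∃ g, ∃ v ∈ V, v ≠ 1 ∧ d = g * v * g⁻¹}
  R := EL2_Rp ψ
  mem k := k.1
  one := EL2_one
  mul := EL2_Rp.mul
  uniq := EL2_uniq c
  inj := EL2_inj c
  ex := fun {u w} e => by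
    by_cases hu : u = 0
    · exact ⟨1, by simpa [hu] using EL2_one, by simp [hu]⟩
    obtain ⟨d, hd, k⟩ := EL2_ex c hu e
    refine ⟨d, k, fun h0 => ?_⟩
    have d1 : d ≠ 1 := fun d1 => h0 (by
      rw [EL2_tv c hu e (w' := 0) (by simp) k (by simpa [d1] using EL2_one), vecMulVec_zero])
    obtain ⟨g, -, e'⟩ := (ψ u).2
    rw [e', mem_cj'] at hd
    obtain ⟨v, hv, rfl⟩ := hd
    exact ⟨g, v, hv, fun e => d1 (by simp [e]), rfl⟩
  of_D d hd hd' := by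
    obtain ⟨g, v, hv, v1, rfl⟩ := hd
    obtain ⟨u, hu, e'⟩ := c.surj ⟨V ^ᶜ g, g, h.fus v hv v1 g hd', rfl⟩
    obtain ⟨w, hw, k⟩ := EL2_of c hu (d := g * v * g⁻¹) (by rw [e']; exact cj_mem g hv)
    exact ⟨u, w, hu, fun w0 => v1 (by
      simpa using EL2_uniq c (a := g * v * g⁻¹) (A := 1) (by simpa [w0] using k) EL2_one), hw, k⟩
  conj := by
    rintro _ ⟨k, v, hv, v1, rfl⟩ g
    exact ⟨g * k, v, hv, v1, by group⟩
  into := by
    rintro _ ⟨k, v, hv, -, rfl⟩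
    exact ⟨k⁻¹, by simpa [mul_assoc] using mem_sup_left (le_normalizer hv)⟩
  back := by
    rintro _ ⟨k, v, hv, v1, rfl⟩ h1 g h2
    have h3 := h.fus v hv v1 (g * k) (by simpa [mul_assoc] using h2)
    exact (mul_mem_cancel_right (h.fus v hv v1 k h1)).1 h3
  cover U hU le := by
    obtain ⟨v, hv, v1, g, hg, k⟩ := h.cov U hU le
    exact ⟨_, ⟨g, v, hv, v1, rfl⟩,
      mul_mem (mul_mem hg (mem_sup_left (le_normalizer hv))) (inv_mem hg), k⟩

theorem EL2_card (hu : u ≠ 0) {S : Subgroup G} {P : Submodule K (κ → K)}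
    (h1 : ∀ w ∈ P, w ⬝ᵥ u = 0)
    (h2 : ∀ a ∈ (ψ u).1, ∀ w, EL2_Rp ψ a (1 + u ⊠ w) → w ⬝ᵥ u = 0 → (a ∈ S ↔ w ∈ P))
    (h3 : S ≤ (ψ u).1) : Nat.card S = Nat.card K ^ finrank K P := by
  choose t ht ht' using fun w : P => EL2_ex c hu (h1 w w.2)
  rw [← Module.natCard_eq_pow_finrank]
  refine (Nat.card_eq_of_bijective
    (fun w => (⟨t w, (h2 _ (ht w) _ (ht' w) (h1 w w.2)).2 w.2⟩ : S)) ⟨fun w w' e => ?_, fun a => ?_⟩).symm
  · have e : t w = t w' := congrArg Subtype.val e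
    exact Subtype.ext (EL2_tv c hu (h1 w w.2) (h1 w' w'.2) (ht' w) (e ▸ ht' w'))
  · obtain ⟨w, e, k⟩ := EL2_of c hu (h3 a.2)
    exact ⟨⟨w, (h2 _ (h3 a.2) _ k e).1 a.2⟩, Subtype.ext (EL2_uniq c (ht' _) k)⟩

theorem EL2_card_eq (q1 : 1 < q) : Nat.card K = q ∧ Fintype.card κ = n + 2 := by
  obtain ⟨x, y, ne, e, k⟩ := h.pair
  obtain ⟨u, hu, rfl⟩ := c.surj x
  obtain ⟨u', hu', rfl⟩ := c.surj y
  have d1 := finrank_perp (Submodule.span K {u})
  have d2 := finrank_perp (Submodule.span K {u, u'})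
  rw [finrank_span_singleton hu] at d1
  rw [c.finrank_span hu hu' ne] at d2
  have c1 := EL2_card c hu (S := V) (P := perp (Submodule.span K {u}))
    (fun w hw => mem_perp.1 hw u (Submodule.mem_span_singleton_self u))
    (fun a ha w _ hw => iff_of_true (by rwa [e] at ha) (mem_perp.2 fun y hy => by
      obtain ⟨s, rfl⟩ := Submodule.mem_span_singleton.1 hy
      rw [dotProduct_smul, hw, smul_zero])) (by rw [e])
  have c2 := EL2_card c hu (S := V ⊓ 𝐍((ψ u').1)) (P := perp (Submodule.span K {u, u'}))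
    (fun w hw => mem_perp.1 hw u (Submodule.subset_span (by simp)))
    (fun a ha w ⟨hM, k⟩ hw => by
      have k := k u' hu'
      rw [mem_inf, and_iff_right (by rwa [e] at ha), ← cj_eq_self_iff,
        ← EL2_smul_eq (g := ⟨a, hM⟩), ← k.2, c.eq_iff k.1 hu',
        add_mulVec, one_mulVec, tv_mulVec, mem_perp]
      refine ⟨fun ⟨s, hs⟩ y hy => ?_, fun k => ⟨1, by
        rw [k u' (Submodule.subset_span (by simp)), zero_smul, add_zero, one_smul]⟩⟩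
      obtain ⟨p, q, rfl⟩ := Submodule.mem_span_pair.1 hy
      simp [hw, (LinearIndependent.pair_iff.1 (c.linearIndependent hu hu' ne) (w ⬝ᵥ u') (1 - s)
        (by rw [sub_smul, hs]; simp)).1]) (by rw [e]; exact inf_le_left)
  rw [h.cV] at c1
  rw [k] at c2
  have e1 : Nat.card K = q := by
    rw [show finrank K (perp (Submodule.span K {u})) = finrank K (perp (Submodule.span K {u, u'})) + 1
      by omega, pow_succ, pow_succ, ← c2] at c1
    exact (Nat.eq_of_mul_eq_mul_left (by positivity) c1).symm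
  rw [e1] at c1
  have := Nat.pow_right_injective q1 c1
  exact ⟨e1, by omega⟩

end el2

theorem Geo.main [IsSimpleGroup G] {F : Type*} [Field F] [Fintype F] {n : ℕ} {V W : Subgroup G}
    (h : Geo V W (Fintype.card F) n) (hn : 2 ≤ n) (hq : 4 ≤ Fintype.card F) :
    Nonempty (G ≃* ProjectiveSpecialLinearGroup (Fin (n + 2)) F) := by
  have q1 : 1 < Fintype.card F ^ n := Nat.one_lt_pow (by omega) (by omega)
  obtain ⟨K, _, _, n', ψ, c⟩ := (EL2_elat h q1).exists_isCoord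
  haveI := EL2_char c
  obtain ⟨e1, e2⟩ := EL2_card_eq c (by omega)
  obtain rfl : n' = n + 2 := by simpa using e2
  rw [Nat.card_eq_fintype_card] at e1
  let f := FiniteField.ringEquivOfCardEq e1
  have t : 𝐍(V) ⊔ 𝐍(W) = ⊤ := (EL2_ln c).top (by rw [Fintype.card_fin]; omega) (Or.inr (by
    classical
    by_contra hc
    push Not at hc
    have h1 : (Finset.univ : Finset K) ⊆ {0, 1} := fun k _ => by
      by_cases k0 : k = 0
      · simp [k0]
      · simp [hc k k0]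
    have h2 := (Finset.card_le_card h1).trans Finset.card_le_two
    rw [Finset.card_univ] at h2
    omega))
  obtain ⟨e⟩ := H81.Elat.nonempty_psl c
  let g : (𝐍(V) ⊔ 𝐍(W) : Subgroup G) ≃* G := (MulEquiv.subgroupCongr t).trans topEquiv
  haveI := g.isSimpleGroup
  have t' := (H81.Elat.normal_iSup (E := EL2_elat h q1)).eq_bot_or_eq_top.resolve_left fun e => by
    obtain ⟨x, -, -, a, ha, a1, -⟩ := (EL2_elat h q1).nsr
    exact a1 (mem_bot.1 (e ▸ le_iSup (EL2_elat h q1).N x ha))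
  exact ⟨g.symm.trans (((MulEquiv.subgroupCongr t').trans topEquiv).symm.trans
    (e.trans (H10.pslCongr f)))⟩

end H46.Sl
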