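import Cfsg.Agent.Lib.SLM.CB

/-! Unitriangular Sylow 2-subgroups, package GE: see `blueprint/SLM/README.md`. -/

set_option autoImplicit false
set_option linter.unusedSectionVars false

namespace H46.Sl
open Subgroup H69 Cfsg Matrix
open scoped commutatorElement

namespace Fr
variable {G : Type*} [Group G] [Finite G] {F : Type*} [Field F] [Fintype F] [CharP F 2] {n : ℕ}
  (f : Fr G F n) {E P M : Subgroup G}

theorem GE_ne {A : Subgroup G} {d : G} (hd : d ∈ A) (h1 : d ≠ 1) : A ≠ ⊥ := fun e => h1 (by rwa [e, mem_bot] at hd)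

theorem GE_ex {A : Subgroup G} (h : A ≠ ⊥) : ∃ d ∈ A, d ≠ 1 := by
  obtain ⟨⟨d, hd⟩, d1⟩ := ne_bot_iff_exists_ne_one.1 h
  exact ⟨d, hd, fun e0 => d1 (Subtype.ext e0)⟩

theorem GE_meet {A B : Subgroup G} (hA : A ≤ f.V) (hB : B ≤ f.V) (cA : Nat.card A = Fintype.card F ^ n)
    (cB : Nat.card B = Fintype.card F ^ n) : A ⊓ B ≠ ⊥ := by
  intro e
  have hn := f.hn
  have hq := f.hq
  have h1 := Nat.card_le_card_of_injective (fun p : A × B => (⟨p.1 * p.2, mul_mem (hA p.1.2) (hB p.2.2)⟩ : f.V))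
    fun p p' h => mul_injective_of_disjoint (disjoint_iff.2 e) (congrArg Subtype.val h)
  rw [Nat.card_prod, cA, cB, f.card_Vs (by omega), ← pow_add, Nat.pow_le_pow_iff_right (by omega)] at h1
  omega

theorem GE_two (h : f.Ch) : ∃ x ∈ 𝐍(f.W), f.Z ⊓ f.Z ^ᶜ x = ⊥ ∧
    ∀ a, a ∉ 𝐍(f.V) → f.V ^ᶜ a ⊓ f.W ≠ ⊥ → ∃ g ∈ 𝐍(f.V), f.V ^ᶜ (g * a) = f.V ^ᶜ x := by
  have h0 := f.dual.vd_x h.full.dual
  rw [show f.dual.V = f.W from f.dual_Vs 0, f.dual_Vs (n - 1), f.dual_Z, f.dual_S] at h0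
  obtain ⟨x, hx, h1, h2⟩ := h0
  refine ⟨x, hx.1, h1, fun a ha h3 => ?_⟩
  obtain ⟨d, ⟨hda, hd⟩, d1⟩ := GE_ex h3
  have hd' : d ∉ f.Z := fun hz => ha (f.ti h (GE_ne (d := d) ⟨(f.V_inf_W.ge hz).1, hda⟩ d1))
  have h4 := f.dual.vd_b h.full.dual (v := d)
  rw [show f.dual.V = f.W from f.dual_Vs 0, show f.dual.W = f.V from f.dual_Ws 0, f.dual_Vs] at h4
  obtain ⟨g, ⟨gW, gV⟩, h5⟩ := h4 hd
  obtain ⟨s, hs, h6⟩ := h2 _ h5 (f.CB_Z gV gW hd')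
  refine ⟨s * g, mul_mem (f.nVs 0 hs) gV, f.ti' h (d := s * (g * d * g⁻¹) * s⁻¹) (by simpa using d1) ?_
    (cj_mono x (f.V_inf_W.ge.trans inf_le_left) h6)⟩
  rw [mul_assoc s g a, ← cj_cj, ← cj_cj]
  exact cj_mem s (cj_mem g hda)

theorem GE_mv (h : f.Ch) {v : G} (hv : v ∈ f.V) (hz : v ∉ f.Z) :
    ∃ a, f.V ^ᶜ a ⊓ f.W ≠ ⊥ ∧ v ∉ 𝐍(f.V ^ᶜ a) := by
  have hv' := f.mem_V.1 hv
  obtain ⟨t, ht⟩ : ∃ t, f.w v t ≠ 0 := by
    by_contra! h0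
    exact hz (f.mem_Z.2 ⟨hv'.1, funext h0, hv'.2⟩)
  obtain ⟨d, hd, e1, e2, -⟩ := f.exQ 0 (Pi.single t 1) 0
  have hW : d ∈ f.W := f.mem_W.2 ⟨hd, e1⟩
  have hd' : d ∉ f.Z := fun h0 => by
    have := congrFun (f.mem_Z.1 h0).2.2 t
    simp [e2] at this
  have h4 := f.dual.vd_a h.full.dual (v := d)
  rw [show f.dual.V = f.W from f.dual_Vs 0, f.dual_Z] at h4
  obtain ⟨g, -, h5⟩ := h4 hW
  have hda : d ∈ f.V ^ᶜ g⁻¹ := mem_cj.2 (by simpa using (f.V_inf_W.ge h5).1)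
  refine ⟨g⁻¹, GE_ne (d := d) ⟨hda, hW⟩ (fun e => hd' (by rw [e]; exact one_mem _)), fun h6 => ht ?_⟩
  have h7 : v ∈ f.V ⊓ centralizer {d} := (f.ca h hW hd' hda).le ⟨hv, h6⟩
  have h8 := (f.commQ hv'.1 hd).1 (mem_centralizer_singleton_iff.1 h7.2)
  simpa [B, e1, e2] using h8

theorem geo (h : f.Ch) : Geo f.V f.W (Fintype.card F) n := by
  have hi : f.V ⊓ f.W ≠ ⊥ := f.V_inf_W ▸ f.Z_ne
  have hi' : f.V ⊓ f.W ^ᶜ (1 : G) ≠ ⊥ := by rwa [cj_one]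
  refine ⟨fun v => f.V_sq, f.card_Vs (by omega), h.cV, fun g => f.ti h, hi, fun b => f.flag h,
    fun a ha => ?_, fun a a' b b' h1 h2 h3 h4 => ?_, fun a a' h1 h2 h3 h4 => ?_, ?_,
    fun a h1 h2 => (f.key h hi' (by rwa [cj_one]) h1).1, fun v hv v1 => ?_, fun v hv v1 g hg => ?_,
    fun U hU hUH => ?_⟩
  · have := f.dual.flag h.dual (b := a)
    rw [show f.dual.V = f.W from f.dual_Vs 0, show f.dual.W = f.V from f.dual_Ws 0, inf_comm] at this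
    exact this ha
  · by_cases ha : a ∈ 𝐍(f.V)
    · exact ⟨b', by rwa [cj_eq_of_mem_normalizer ha], h4⟩
    by_cases ha' : a' ∈ 𝐍(f.V)
    · exact ⟨b, h2, by rwa [cj_eq_of_mem_normalizer ha']⟩
    obtain ⟨c1, k1⟩ := f.key h h1 h2 ha
    obtain ⟨c2, k2⟩ := f.key h h3 h4 ha'
    obtain ⟨e, ⟨m1, m2⟩, e1⟩ := GE_ex (f.GE_meet inf_le_left inf_le_left c1 c2)
    obtain ⟨g, -, hg⟩ := f.vd_a h.full m1.1
    have hc : e ∈ f.W ^ᶜ g⁻¹ := mem_cj.2 (by simpa using (f.V_inf_W.ge hg).2)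
    exact ⟨g⁻¹, k1 e m1 e1 _ hc, k2 e m2 e1 _ hc⟩
  · obtain ⟨x, -, -, hx⟩ := f.GE_two h
    obtain ⟨g, hg, e⟩ := hx a h1 h3
    obtain ⟨g', hg', e'⟩ := hx a' h2 h4
    refine ⟨g'⁻¹ * g, mul_mem (inv_mem hg') hg, ?_⟩
    rw [mul_assoc, ← cj_cj, e, ← e', cj_cj, inv_mul_cancel_left]
  · obtain ⟨x, hx, h1, -⟩ := f.GE_two h
    refine ⟨x, fun h2 => f.Z_ne ?_, fun h2 => hi ?_⟩
    · rwa [← f.V_inf_W, cj_inf, cj_eq_of_mem_normalizer hx, cj_eq_of_mem_normalizer h2, inf_idem,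
        f.V_inf_W] at h1
    · rwa [← cj_eq_of_mem_normalizer hx, ← cj_inf, cj_eq_bot_iff] at h2
  · by_cases hz : v ∈ f.Z
    · obtain ⟨x, hx, h1, -⟩ := f.vd_x h.full
      obtain ⟨a, h2, h3⟩ := f.GE_mv h ((mem_normalizer_iff.1 hx.1 v).1 hv)
        (fun h0 => GE_ne (d := x * v * x⁻¹) (mem_inf.2 ⟨h0, cj_mem x hz⟩) (by simpa using v1) h1)
      refine ⟨x⁻¹ * a, x⁻¹, ?_, ?_, fun h4 => h3 ?_⟩
      · rw [← cj_eq_of_mem_normalizer (inv_mem hx.1), ← cj_inf]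
        exact fun e => hi (cj_eq_bot_iff.1 e)
      · rw [← cj_cj, ← cj_inf]
        exact fun e => h2 (cj_eq_bot_iff.1 e)
      · have := cj_mem x h4
        rwa [cj_normalizer, cj_cj, mul_inv_cancel_left] at this
    · obtain ⟨a, h2, h3⟩ := f.GE_mv h hv hz
      exact ⟨a, 1, hi', by rwa [cj_one], h3⟩
  · obtain ⟨k, hk, hz⟩ := f.vd_a h.full hv
    obtain ⟨m, hm, e⟩ := f.ctl (H := 𝐍(f.V) ⊔ 𝐍(f.W)) le_sup_left le_sup_right (g := g * k⁻¹)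
      (f.Q_le (f.Vs_le _ hz)) (by simpa [mul_assoc] using hg)
    have h1 : m⁻¹ * (g * k⁻¹) ∈ 𝐍(f.V) ⊓ 𝐍(f.W) := h.cz _ hz (by simpa using v1) (by
      rw [mem_centralizer_singleton_iff]
      calc _ = m⁻¹ * (g * k⁻¹ * (k * v * k⁻¹) * (g * k⁻¹)⁻¹) * (g * k⁻¹) := by group
        _ = _ := by rw [← e]; group)
    have e2 : g = m * (m⁻¹ * (g * k⁻¹)) * k := by group
    rw [e2]
    exact mul_mem (mul_mem hm (mem_sup_left h1.1)) (mem_sup_left hk)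
  · obtain ⟨g, hg, h1⟩ := IsSylowIn.exists_le_cj (IsSylowIn.mono f.syl ((f.nVs 0).trans le_sup_left) le_top) hU hUH
    obtain ⟨z, hz, z1⟩ := GE_ex f.Z_ne
    refine ⟨z, (f.V_inf_W.ge hz).1, z1, g, hg, fun x hx => ?_⟩
    obtain ⟨s, hs, rfl⟩ := mem_cj'.1 (h1 hx)
    calc _ = g * (s * z) * g⁻¹ := by group
      _ = _ := by rw [f.Z_cen hz s hs]; group

end Fr

end H46.Sl
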