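import Cfsg.Agent.Lib.SLM.NS
import Cfsg.Agent.S2767
import Cfsg.Agent.S0058
import Cfsg.Agent.Lib.Core.PCore

/-! Unitriangular Sylow 2-subgroups, package RC: see `blueprint/SLM/README.md`. -/

set_option autoImplicit false
set_option linter.unusedSectionVars false

namespace H46.Sl
open Subgroup H69 Cfsg Matrix
open scoped commutatorElement

namespace RC

variable {Γ X : Type*} [Group Γ] [Finite Γ] [Group X]

theorem sc (π : Γ →* X) (hπ : Function.Surjective π) {S V : Subgroup Γ} (hS : IsSylowIn 2 S ⊤) (VS : V ≤ S)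
    (ab : ∀ a ∈ S, ∀ b ∈ S, π a * π b = π b * π a) (nV : 𝐍(S) ≤ 𝐍(V)) : IsStronglyClosed (V.map π) (S.map π) := by
  have := Fact.mk Nat.prime_two
  refine ⟨map_mono VS, ?_⟩
  rintro _ ⟨x, hx, rfl⟩ g ⟨s, hs, e⟩
  obtain ⟨g, rfl⟩ := hπ g
  have h1 : S ≤ (centralizer {π s}).comap π := fun t ht => mem_centralizer_singleton_iff.2 (ab t ht s hs)
  have h2 : S ^ᶜ g ≤ (centralizer {π s}).comap π := fun t ht => by
    obtain ⟨a, ha, rfl⟩ := mem_cj'.1 ht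
    refine mem_centralizer_singleton_iff.2 ?_
    rw [e, map_mul, map_mul, map_inv, conj_mul, conj_mul, ab a ha x (VS hx)]
  obtain ⟨k, hk, ek⟩ := ((hS.cj_of_mem (mem_top g)).mono h2 le_top).conj (hS.mono h1 le_top)
  rw [cj_cj, cj_eq_self_iff] at ek
  refine ⟨_, conj_mem_of_mem_normalizer (nV ek) hx, ?_⟩
  calc π (k * g * x * (k * g)⁻¹) = π k * (π g * π x * (π g)⁻¹) * (π k)⁻¹ := by simp [mul_assoc]
    _ = _ := by rw [← e, mem_centralizer_singleton_iff.1 hk, mul_inv_cancel_right]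

theorem core {R S V W D : Subgroup Γ} [R.Normal] (hS : IsSylowIn 2 S ⊤) (VS : V ≤ S) (WS : W ≤ S)
    (ab : ∀ a ∈ S, ∀ b ∈ S, ⁅a, b⁆ ∈ 𝐂(R)) (nV : 𝐍(S) ≤ 𝐍(V)) (nW : 𝐍(S) ≤ 𝐍(W))
    (inf : ∀ v ∈ V, ∀ v' ∈ W, v * v' ∈ 𝐂(R) → v ∈ 𝐂(R)) (sq : ∀ v ∈ V, v * v = 1) (DV : D ≤ V) (DR : D ≤ R)
    (hV : ∀ v ∈ V, v ∉ 𝐂(R) → ∀ r ∈ R, ⁅v, r⁆ ∈ D ∧ (v * r = r * v ↔ r ∈ D)) {a b : Γ} (ha : a ∈ V) (hb : b ∈ V)
    (a1 : a ∉ 𝐂(R)) (b1 : b ∉ 𝐂(R)) (ab1 : a * b ∉ 𝐂(R)) (y y' : Γ) {v w : Γ} (hv : v ∈ V) (hw : w ∈ W) :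
    ⁅y * v * y⁻¹, y' * w * y'⁻¹⁆ ∈ 𝐂(R) := by
  have := Fact.mk Nat.prime_two
  obtain ⟨π, hπ, k1⟩ : ∃ π : Γ →* Γ ⧸ 𝐂(R), Function.Surjective π ∧ ∀ g, π g = 1 ↔ g ∈ 𝐂(R) :=
    ⟨QuotientGroup.mk' _, QuotientGroup.mk'_surjective _, QuotientGroup.eq_one_iff⟩
  have ab' : ∀ a ∈ S, ∀ b ∈ S, π a * π b = π b * π a := fun a ha b hb =>
    commutatorElement_eq_one_iff_mul_comm.1 (by rw [← map_commutatorElement, k1]; exact ab a ha b hb)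
  obtain ⟨P, hP⟩ := (map_top_of_surjective π hπ ▸ hS.map π).exists_sylow_top
  have key := Cfsg.Agent.S2767.result P (V.map π) (W.map π) (hP ▸ sc π hπ hS VS ab' nV) (hP ▸ sc π hπ hS WS ab' nW) (by
    rintro _ ⟨a, ha, rfl⟩ _ ⟨b, hb, rfl⟩; exact ab' a (VS ha) b (WS hb))
  rw [show V.map π ⊓ W.map π = ⊥ from eq_bot_iff.2 (by
    rintro _ ⟨⟨v, hv, rfl⟩, v', hv', e⟩
    exact mem_bot.2 ((k1 v).2 (inf v hv _ (inv_mem hv') ((k1 _).1 (by rw [map_mul, map_inv, e, mul_inv_cancel]))))),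
    normalClosure_eq_self ⊥, bot_sup_eq] at key
  have hO : (pPrimeCore 2 (Γ ⧸ 𝐂(R))).Normal := inferInstance
  have cop := H1.coprime_card_pPrimeCore (p := 2) (G := Γ ⧸ 𝐂(R))
  generalize pPrimeCore 2 (Γ ⧸ 𝐂(R)) = O at key hO cop
  have odd : ∀ x ∈ O, x * x = 1 → x = 1 := fun x hx h => orderOf_eq_one_iff.1 (Nat.Coprime.eq_one_of_dvd
    (cop.coprime_dvd_left (O.orderOf_dvd_natCard hx)) (orderOf_dvd_of_pow_eq_one (by rw [pow_two, h])))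
  have cV : ∀ a ∈ V, ∀ b ∈ V, a * b = b * a := fun a ha b hb => by
    rw [← inv_eq_of_mul_eq_one_left (sq _ (mul_mem ha hb)), _root_.mul_inv_rev, inv_eq_of_mul_eq_one_left (sq a ha),
      inv_eq_of_mul_eq_one_left (sq b hb)]
  have : IsMulCommutative (V.map π) := ⟨⟨by
    rintro ⟨_, a, ha, rfl⟩ ⟨_, b, hb, rfl⟩; exact Subtype.ext (ab' a (VS ha) b (VS hb))⟩⟩
  have nc : ¬ IsCyclic (V.map π) := fun h => by
    obtain ⟨⟨_, g, hg, rfl⟩, e⟩ := IsCyclic.exists_monoid_generator (α := V.map π)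
    have : ∀ a ∈ V, a ∉ 𝐂(R) → π a = π g := fun a ha a1 => by
      obtain ⟨k, hk⟩ := e ⟨_, a, ha, rfl⟩
      have hk : π g ^ k = π a := congrArg Subtype.val hk
      have g2 : π g ^ 2 = 1 := by rw [pow_two, ← map_mul, sq g hg, map_one]
      rcases Nat.even_or_odd' k with ⟨m, rfl | rfl⟩
      · rw [pow_mul, g2, one_pow] at hk; exact (a1 ((k1 a).1 hk.symm)).elim
      · rw [← hk, pow_succ, pow_mul, g2, one_pow, one_mul]
    exact ab1 ((k1 _).1 (by rw [map_mul, this a ha a1, this b hb b1, ← map_mul, sq g hg, map_one]))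
  obtain ⟨j, hj⟩ := ((hS.isP.to_le VS).map π).exists_card_eq
  have ON : O ≤ 𝐍(D).map π := (Cfsg.Agent.S0058.result (V.map π) O nc (by rw [normalizer_eq_top]; exact le_top)
      (hj ▸ cop.symm.pow_left j)).ge.trans (iSup₂_le (by
    rintro _ ⟨⟨u, hu, rfl⟩, u1⟩ o ⟨-, ho⟩
    obtain ⟨g, rfl⟩ := hπ o
    refine ⟨g, mem_normalizer_of_cj_le fun _ hd' => ?_, rfl⟩
    obtain ⟨d, hd, rfl⟩ := mem_cj'.1 hd'
    have c : u⁻¹ * (g⁻¹ * u * g) ∈ 𝐂(R) := (k1 _).1 (by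
      rw [map_mul, map_mul, map_mul, map_inv, map_inv, mul_assoc (π g)⁻¹, ← mem_centralizer_singleton_iff.1 ho]; group)
    refine ((hV u hu (fun k => u1 ((k1 u).2 k)) _ (Normal.conj_mem inferInstance _ (DR hd) g)).2.1 ?_)
    calc u * (g * d * g⁻¹) = g * (u * (u⁻¹ * (g⁻¹ * u * g) * d)) * g⁻¹ := by group
      _ = g * (u * d * (u⁻¹ * (g⁻¹ * u * g))) * g⁻¹ := by rw [← c d (DR hd), mul_assoc u]
      _ = _ := by rw [cV u hu d (DV hd)]; group))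
  have OV : ∀ o ∈ O, ∀ v ∈ V, o * π v = π v * o := fun o ho v hv => by
    obtain ⟨g, hg, rfl⟩ := ON ho
    have c1 : ∀ r ∈ R, ⁅v, r⁆ ∈ D := fun r hr => by
      by_cases k : v ∈ 𝐂(R)
      · rw [commutatorElement_eq_one_iff_mul_comm.2 (k r hr).symm]; exact one_mem _
      · exact (hV v hv k r hr).1
    have c2 : ∀ d ∈ D, ⁅g, v⁆ * d * ⁅g, v⁆⁻¹ = d := fun d hd => by
      have e1 := cV v hv d (DV hd)
      have e2 := cV v hv _ (DV (conj_mem_of_mem_normalizer' hg hd))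
      calc _ = g * (v * (g⁻¹ * (v⁻¹ * (d * v)) * g) * v⁻¹) * g⁻¹ := by simp only [commutatorElement_def]; group
        _ = d := by rw [← e1, inv_mul_cancel_left, e2]; group
    rw [← commutatorElement_eq_one_iff_mul_comm]
    refine odd _ (by
      have := mul_mem ho (hO.conj_mem _ (inv_mem ho) (π v))
      simpa only [commutatorElement_def, mul_assoc] using this) ?_
    rw [← map_commutatorElement, ← map_mul, k1]
    intro r hr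
    obtain ⟨d, hd, e⟩ : ∃ d ∈ D, ⁅g, v⁆ * r * ⁅g, v⁆⁻¹ = d * r := by
      have m := c1 r hr
      have e1 : v⁻¹ * r * v = ⁅v, r⁆ * r := by
        rw [commutatorElement_def, inv_eq_of_mul_eq_one_left (sq v hv), inv_mul_cancel_right]
      have m2 := conj_mem_of_mem_normalizer hg (c1 _ (Normal.conj_mem' inferInstance _ (mul_mem (DR m) hr) g))
      refine ⟨_, mul_mem m2 m, ?_⟩
      rw [mul_assoc _ ⁅v, r⁆, ← e1]; simp only [commutatorElement_def]; group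
    symm
    rw [← mul_inv_eq_iff_eq_mul, show ⁅g, v⁆ * ⁅g, v⁆ * r * (⁅g, v⁆ * ⁅g, v⁆)⁻¹ =
      ⁅g, v⁆ * (⁅g, v⁆ * r * ⁅g, v⁆⁻¹) * ⁅g, v⁆⁻¹ by group, e, ← conj_mul, c2 d hd, e, ← mul_assoc, sq d (DV hd), one_mul]
  have m := key (commutator_mem_commutator (normalClosure_normal.conj_mem _ (le_normalClosure (mem_map_of_mem π hv)) (π y))
    (normalClosure_normal.conj_mem _ (le_normalClosure (mem_map_of_mem π hw)) (π y')))
  rw [← k1, map_commutatorElement, map_mul, map_mul, map_mul, map_mul, map_inv, map_inv]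
  refine odd _ m ?_
  have e := OV _ (hO.conj_mem' _ m (π y)) v hv
  have v2 : π v * π v = 1 := by rw [← map_mul, sq v hv, map_one]
  generalize π y' * π w * (π y')⁻¹ = x' at *
  have e' : ∀ c, (π y)⁻¹ * c * π y * π v = π v * ((π y)⁻¹ * c * π y) →
      c = π y * π v * (π y)⁻¹ * c * (π y * π v * (π y)⁻¹)⁻¹ := fun c h => by
    calc c = π y * ((π y)⁻¹ * c * π y * π v) * (π v)⁻¹ * (π y)⁻¹ := by group
      _ = _ := by rw [h]; group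
  nth_rewrite 1 [e' _ e]
  calc _ = π y * (π v * π v) * (π y)⁻¹ * x' * (π y * (π v * π v) * (π y)⁻¹)⁻¹ * x'⁻¹ := by
        simp only [commutatorElement_def]; group
    _ = 1 := by rw [v2]; group

end RC

namespace Fr
variable {G : Type*} [Group G] [Finite G] {F : Type*} [Field F] [Fintype F] [CharP F 2] {n : ℕ}
  (f : Fr G F n) {E P M : Subgroup G}

theorem RC_i0 (i : Fin n) : f.i0 ≤ i := Nat.zero_le _
theorem RC_iL (i : Fin n) : i ≤ f.iL := Nat.le_sub_one_of_lt i.2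
theorem RC_ne0 {i : Fin n} : i ≠ f.i0 ↔ 1 ≤ i.val := by rw [Ne, Fin.ext_iff]; exact Nat.one_le_iff_ne_zero.symm
theorem RC_neL {i : Fin n} : i ≠ f.iL ↔ i.val < n - 1 := by
  have := i.2
  rw [Ne, Fin.ext_iff]; show ¬ i.val = n - 1 ↔ _; omega
theorem RC_0L : f.i0 ≠ f.iL := f.RC_neL.2 (by have := f.hn; show 0 < n - 1; omega)

theorem mem_R0 {a : G} : a ∈ f.R 1 ⊓ f.R (n - 1) ↔ a ∈ f.S ∧ (∀ i, i ≠ f.iL → f.w a i = 0) ∧
    (∀ i, i ≠ f.i0 → f.u a i = 0) ∧ ∃ l : F, f.L a = 1 + single f.i0 f.iL l := by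
  have hn := f.hn
  rw [mem_inf, f.mem_R, f.mem_R]
  constructor
  · rintro ⟨⟨hs, -, h2, h3⟩, -, h4, -, h6⟩
    refine ⟨hs, fun i hi => h4 i (f.RC_neL.1 hi), fun i hi => h2 i (f.RC_ne0.1 hi), f.L a f.i0 f.iL, ?_⟩
    ext s t
    rcases le_or_gt t s with h | h
    · rw [f.ut a hs s t h, Matrix.add_apply, single_apply_of_ne, add_zero]
      rintro ⟨rfl, rfl⟩
      exact f.RC_0L (le_antisymm (f.RC_i0 _) h)
    · rw [Matrix.add_apply, one_apply_ne h.ne, zero_add]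
      by_cases k : f.i0 = s ∧ f.iL = t
      · obtain ⟨rfl, rfl⟩ := k; rw [single_apply_same]
      · rw [single_apply_of_ne _ _ _ _ _ k]
        rcases not_and_or.1 k with k | k
        exacts [h3 s t h (.inl (f.RC_ne0.1 (Ne.symm k))), h6 s t h (.inr (f.RC_neL.1 (Ne.symm k)))]
  · rintro ⟨hs, h1, h2, l, h3⟩
    have k : ∀ s t : Fin n, s < t → s ≠ f.i0 ∨ t ≠ f.iL → f.L a s t = 0 := fun s t h k => by
      rw [h3, Matrix.add_apply, one_apply_ne h.ne, zero_add, single_apply_of_ne]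
      rintro ⟨rfl, rfl⟩; simp at k
    exact ⟨⟨hs, fun i hi => h1 i (f.RC_neL.2 (by omega)), fun i hi => h2 i (f.RC_ne0.2 hi), fun s t h e =>
        k s t h (e.imp f.RC_ne0.2 fun e => f.RC_neL.2 (by omega))⟩, hs, fun i hi => h1 i (f.RC_neL.2 hi),
      fun i hi => h2 i (f.RC_ne0.2 (by omega)), fun s t h e => k s t h (e.imp (fun e => f.RC_ne0.2 (by omega)) f.RC_neL.2)⟩

theorem RC_col {s : G} (hs : s ∈ f.S) (i : Fin n) : f.L s i f.i0 = (1 : Matrix _ _ F) i f.i0 := f.ut s hs _ _ (f.RC_i0 i)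
theorem RC_row {s : G} (hs : s ∈ f.S) (i : Fin n) : f.L s f.iL i = (1 : Matrix _ _ F) f.iL i := f.ut s hs _ _ (f.RC_iL i)

theorem RC_w {a b : G} (ha : a ∈ f.S) (hb : b ∈ f.S) : f.w (a * b) f.i0 = f.w a f.i0 + f.w b f.i0 := by
  simp [f.w_mul a ha b hb, vecMul, dotProduct, f.RC_col hb, one_apply]

theorem RC_u {a b : G} (ha : a ∈ f.S) (hb : b ∈ f.S) : f.u (a * b) f.iL = f.u a f.iL + f.u b f.iL := by
  simp [f.u_mul a ha b hb, mulVec, dotProduct, f.RC_row ha, one_apply]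

theorem RC_wi {a : G} (ha : a ∈ f.S) : f.w a⁻¹ f.i0 = f.w a f.i0 := by
  have := f.RC_w (inv_mem ha) ha
  rw [inv_mul_cancel, f.w_one] at this
  exact CharTwo.add_eq_zero.1 this.symm

theorem RC_ui {a : G} (ha : a ∈ f.S) : f.u a⁻¹ f.iL = f.u a f.iL := by
  have := f.RC_u (inv_mem ha) ha
  rw [inv_mul_cancel, f.u_one] at this
  exact CharTwo.add_eq_zero.1 this.symm

theorem RC_vm (x : Fin n → F) (l : F) : x ᵥ* (1 + single f.i0 f.iL l) = x + Pi.single f.iL (x f.i0 * l) := by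
  rw [vecMul_add, vecMul_one]
  congr 1; ext i
  by_cases h : i = f.iL
  · simp [h, vecMul, dotProduct, single_apply]
  · simp [h, vecMul, dotProduct, Ne.symm h]

theorem RC_comm {s r : G} (hs : s ∈ f.S) (hr : r ∈ f.S) (h1 : ∀ i, i ≠ f.iL → f.w r i = 0) (h2 : ∀ i, i ≠ f.i0 → f.u r i = 0)
    {l : F} (h3 : f.L r = 1 + single f.i0 f.iL l) : s * r = r * s ↔
    f.w s f.i0 * l = 0 ∧ l * f.u s f.iL = 0 ∧ f.w s f.i0 * f.u r f.i0 = f.w r f.iL * f.u s f.iL := by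
  have e1 : f.w r = Pi.single f.iL (f.w r f.iL) := by ext i; by_cases h : i = f.iL <;> simp [h, h1]
  have e2 : f.u r = Pi.single f.i0 (f.u r f.i0) := by ext i; by_cases h : i = f.i0 <;> simp [h, h2]
  have a1 : f.L s * f.L r = f.L r * f.L s := by
    rw [h3, mul_add, add_mul, mul_one, one_mul, add_right_inj]
    ext i j
    by_cases hi : i = f.i0 <;> by_cases hj : j = f.iL <;>
      simp [hi, hj, f.RC_col hs, f.RC_row hs, one_apply, eq_comm]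
  have a2 : f.w r ᵥ* f.L s = f.w r := by
    ext i; rw [e1]; by_cases h : i = f.iL <;> simp [h, vecMul, f.RC_row hs, one_apply, eq_comm]
  have a3 : f.L s *ᵥ f.u r = f.u r := by
    ext i; rw [e2]; by_cases h : i = f.i0 <;> simp [h, mulVec, f.RC_col hs, one_apply]
  rw [f.comm_iff hs hr, a1, a2, a3, h3, f.RC_vm, add_mulVec, one_mulVec, single_mulVec, add_right_comm, add_comm (f.w r),
    add_eq_left, ← add_assoc, add_comm (f.u r), left_eq_add, Pi.single_eq_zero_iff]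
  conv_lhs => rw [e1, e2, single_dotProduct, dotProduct_single]
  simp [Function.update_eq_self_iff]

theorem RC_cen {s : G} (hs : s ∈ f.S) :
    s ∈ 𝐂((f.R 1 ⊓ f.R (n - 1) : Subgroup G)) ↔ f.w s f.i0 = 0 ∧ f.u s f.iL = 0 := by
  constructor
  · intro h
    obtain ⟨r, hr, e, e1, e2⟩ := f.exEl (lt_of_le_of_ne (f.RC_i0 _) f.RC_0L) 1
    have h1 : ∀ i, i ≠ f.iL → f.w r i = 0 := fun i _ => by simp [e1]
    have h2 : ∀ i, i ≠ f.i0 → f.u r i = 0 := fun i _ => by simp [e2]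
    have := (f.RC_comm hs hr h1 h2 e).1 (h r (f.mem_R0.2 ⟨hr, h1, h2, 1, e⟩)).symm
    exact ⟨by simpa using this.1, by simpa using this.2.1⟩
  · intro h r hr
    obtain ⟨hr, h1, h2, l, e⟩ := f.mem_R0.1 hr
    exact ((f.RC_comm hs hr h1 h2 e).2 (by simp [h.1, h.2])).symm

theorem RC_D {r : G} (hr : r ∈ f.Vs (n - 1)) : r ∈ f.R 1 ⊓ f.R (n - 1) :=
  f.mem_R0.2 ⟨hr.1.1, fun i hi => hr.2.2.1 i (f.RC_neL.1 hi), fun i _ => by simp [hr.2.1], 0, by simp [hr.1.2]⟩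

theorem rc_V {v r : G} (hv : v ∈ f.V) (hc : v ∉ 𝐂((f.R 1 ⊓ f.R (n - 1) : Subgroup G))) (hr : r ∈ f.R 1 ⊓ f.R (n - 1)) :
    ⁅v, r⁆ ∈ f.Vs (n - 1) ∧ (v * r = r * v ↔ r ∈ f.Vs (n - 1)) := by
  obtain ⟨vQ, vu⟩ := f.mem_V.1 hv
  have w0 : f.w v f.i0 ≠ 0 := fun h => hc ((f.RC_cen vQ.1).2 ⟨h, by simp [vu]⟩)
  obtain ⟨-, -, -, l', e'⟩ := f.mem_R0.1 (inv_mem hr)
  obtain ⟨hr, h1, h2, l, e⟩ := f.mem_R0.1 hr
  constructor
  · rw [← commutatorElement_inv]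
    obtain ⟨c1, c2, c3, -⟩ := f.cmQ hr vQ
    refine inv_mem (f.mem_Vs.2 ⟨c1, by simp [c3, vu], fun i hi => ?_, fun h => by omega⟩)
    simp [c2, e', f.RC_vm, f.RC_neL.2 hi, CharTwo.add_self_eq_zero]
  · rw [f.RC_comm vQ.1 hr h1 h2 e, f.mem_Vs, f.mem_Q, vu]
    simp only [mul_eq_zero, w0, false_or, Pi.zero_apply, mul_zero, true_and]
    constructor
    · rintro ⟨rfl, h⟩
      refine ⟨⟨hr, by simp [e]⟩, ?_, fun i hi => h1 i (f.RC_neL.2 hi), fun h => by omega⟩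
      ext i; by_cases k : i = f.i0 <;> simp [k, h, h2]
    · rintro ⟨⟨-, h⟩, h', -⟩
      rw [e, add_eq_left] at h
      exact ⟨by simpa using congrFun (congrFun h f.i0) f.iL, by simp [h']⟩

theorem rc_S {s : G} (hs : s ∈ f.S) : ∃ v ∈ f.V, ∃ v' ∈ f.W, (v * v')⁻¹ * s ∈ 𝐂((f.R 1 ⊓ f.R (n - 1) : Subgroup G)) := by
  obtain ⟨v, hv, e1, e2, -⟩ := f.exQ (f.w s) 0 0
  obtain ⟨v', hv', e3, e4, -⟩ := f.exQ 0 (f.u s) 0
  have m := mul_mem hv.1 hv'.1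
  refine ⟨v, f.mem_V.2 ⟨hv, e2⟩, v', f.mem_W.2 ⟨hv', e3⟩, (f.RC_cen (mul_mem (inv_mem m) hs)).2 ⟨?_, ?_⟩⟩
  · simp only [f.RC_w (inv_mem m) hs, f.RC_wi m, f.RC_w hv.1 hv'.1, e1, e3, Pi.zero_apply, add_zero,
      CharTwo.add_self_eq_zero]
  · simp only [f.RC_u (inv_mem m) hs, f.RC_ui m, f.RC_u hv.1 hv'.1, e2, e4, Pi.zero_apply, zero_add,
      CharTwo.add_self_eq_zero]

theorem rc_inf {v v' : G} (hv : v ∈ f.V) (hv' : v' ∈ f.W) (h : v * v' ∈ 𝐂((f.R 1 ⊓ f.R (n - 1) : Subgroup G))) :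
    v ∈ 𝐂((f.R 1 ⊓ f.R (n - 1) : Subgroup G)) := by
  obtain ⟨vQ, vu⟩ := f.mem_V.1 hv
  obtain ⟨vQ', vw⟩ := f.mem_W.1 hv'
  have := ((f.RC_cen (mul_mem vQ.1 vQ'.1)).1 h).1
  rw [f.RC_w vQ.1 vQ'.1, vw] at this
  exact (f.RC_cen vQ.1).2 ⟨by simpa using this, by simp [vu]⟩

theorem RC_ex (l : F) : ∃ v ∈ f.V, f.w v f.i0 = l := by
  obtain ⟨v, hv, e1, e2, -⟩ := f.exQ (fun _ => l) 0 0
  exact ⟨v, f.mem_V.2 ⟨hv, e2⟩, by rw [e1]⟩

theorem RC_fix {r : G} (hr : r ∈ f.R 1 ⊓ f.R (n - 1)) (h : r ∈ 𝐂(f.V)) : r ∈ f.V := by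
  obtain ⟨v, hv, e⟩ := f.RC_ex 1
  exact f.Vs_anti (Nat.zero_le _) ((f.rc_V hv (fun k => one_ne_zero (e.symm.trans
    ((f.RC_cen (f.Vs_le 0 hv).1).1 k).1)) hr).2.1 (h v hv))

theorem rc {y y' : G} (hy : y ∈ 𝐍((f.R 1 ⊓ f.R (n - 1) : Subgroup G)))
    (hy' : y' ∈ 𝐍((f.R 1 ⊓ f.R (n - 1) : Subgroup G))) : f.V ^ᶜ y ⊓ f.W ^ᶜ y' ≠ ⊥ := by
  have := Fact.mk Nat.prime_two
  have hn := f.hn
  have SH : f.S ≤ 𝐍((f.R 1 ⊓ f.R (n - 1) : Subgroup G)) := le_normalizer_inf (f.nR 1) (f.nR _)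
  have dR : f.dual.R 1 ⊓ f.dual.R (n - 1) = f.R 1 ⊓ f.R (n - 1) := by
    have := f.dual_R (j := n - 1) (by omega)
    rw [show n - (n - 1) = 1 by omega] at this
    rw [this, f.dual_R (by omega), inf_comm]
  have fW : ∀ r ∈ f.R 1 ⊓ f.R (n - 1), r ∈ 𝐂(f.W) → r ∈ f.W := fun r hr h => by
    have := f.dual.RC_fix (dR ▸ hr)
    rw [V, f.dual_Vs] at this
    exact this h
  have VS : f.V ≤ f.S := (f.Vs_le 0).trans f.Q_le
  have WS : f.W ≤ f.S := (f.Ws_le 0).trans f.Q_le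
  obtain ⟨l, l0, l1⟩ := f.ex_l
  obtain ⟨a, ha, ea⟩ := f.RC_ex 1
  obtain ⟨b, hb, eb⟩ := f.RC_ex l
  have a1 : a ∉ 𝐂((f.R 1 ⊓ f.R (n - 1) : Subgroup G)) := fun k => one_ne_zero (ea.symm.trans ((f.RC_cen (VS ha)).1 k).1)
  have b1 : b ∉ 𝐂((f.R 1 ⊓ f.R (n - 1) : Subgroup G)) := fun k => l0 (eb.symm.trans ((f.RC_cen (VS hb)).1 k).1)
  have ab1 : a * b ∉ 𝐂((f.R 1 ⊓ f.R (n - 1) : Subgroup G)) := fun k => l1 (by
    have := ((f.RC_cen (VS (mul_mem ha hb))).1 k).1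
    rw [f.RC_w (VS ha) (VS hb), ea, eb] at this
    exact (CharTwo.add_eq_zero.1 this).symm)
  have ab : ∀ s ∈ f.S, ∀ t ∈ f.S, ⁅s, t⁆ ∈ 𝐂((f.R 1 ⊓ f.R (n - 1) : Subgroup G)) := fun s hs t ht => by
    have m := mul_mem hs ht
    have m' := mul_mem m (inv_mem hs)
    refine (f.RC_cen (mul_mem m' (inv_mem ht))).2 ⟨?_, ?_⟩
    · rw [f.RC_w m' (inv_mem ht), f.RC_w m (inv_mem hs), f.RC_w hs ht, f.RC_wi hs, f.RC_wi ht, add_assoc,
        CharTwo.add_self_eq_zero]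
    · rw [f.RC_u m' (inv_mem ht), f.RC_u m (inv_mem hs), f.RC_u hs ht, f.RC_ui hs, f.RC_ui ht, add_assoc,
        CharTwo.add_self_eq_zero]
  have inf := @rc_inf _ _ _ _ _ _ _ _ f
  have hV := @rc_V _ _ _ _ _ _ _ _ f
  have DR := @RC_D _ _ _ _ _ _ _ _ f
  generalize f.R 1 ⊓ f.R (n - 1) = R at *
  have cC : ∀ g : 𝐍(R), g ∈ 𝐂(R.subgroupOf 𝐍(R)) ↔ (g : G) ∈ 𝐂(R) := fun g =>
    ⟨fun h r hr => congrArg Subtype.val (h ⟨r, le_normalizer hr⟩ hr), fun h r hr => Subtype.ext (h r hr)⟩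
  have nn : ∀ A : Subgroup G, A ≤ f.S → 𝐍(f.S) ≤ 𝐍(A) → 𝐍(f.S.subgroupOf 𝐍(R)) ≤ 𝐍(A.subgroupOf 𝐍(R)) := fun A h k => by
    rw [← subgroupOf_normalizer_eq SH, ← subgroupOf_normalizer_eq (h.trans SH)]; exact comap_mono k
  have key : ∀ w ∈ f.W, ⁅y * a * y⁻¹, y' * w * y'⁻¹⁆ ∈ 𝐂(R) := fun w hw => (cC _).1 (RC.core
    (D := (f.Vs (n - 1)).subgroupOf 𝐍(R)) (f.syl.mono SH le_top).subgroupOf_top (comap_mono VS) (comap_mono WS)
    (fun s hs t ht => (cC _).2 (ab s hs t ht)) (nn _ VS f.nsV) (nn _ WS f.nsW)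
    (fun v hv v' hv' h => (cC _).2 (inf hv hv' ((cC _).1 h))) (fun v hv => Subtype.ext (f.V_sq hv))
    (comap_mono (f.Vs_anti (Nat.zero_le _))) (comap_mono fun _ => DR)
    (fun v hv h r hr => ⟨(hV hv (fun k => h ((cC _).2 k)) hr).1,
      Subtype.ext_iff.trans (hV hv (fun k => h ((cC _).2 k)) hr).2⟩)
    (a := ⟨a, SH (VS ha)⟩) (b := ⟨b, SH (VS hb)⟩) ha hb (fun k => a1 ((cC _).1 k)) (fun k => b1 ((cC _).1 k))
    (fun k => ab1 ((cC _).1 k)) ⟨y, hy⟩ ⟨y', hy'⟩ (v := ⟨a, SH (VS ha)⟩) (w := ⟨w, SH (WS hw)⟩) ha hw)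
  have DV : f.Vs (n - 1) ≤ f.V := f.Vs_anti (Nat.zero_le _)
  have mD : ∀ r, r ∈ f.Vs (n - 1) ^ᶜ y ↔ r ∈ R ∧ y * a * y⁻¹ * r = r * (y * a * y⁻¹) := fun r => by
    have e : y * a * y⁻¹ * r = r * (y * a * y⁻¹) ↔ a * (y⁻¹ * r * y) = y⁻¹ * r * y * a := by
      rw [← mul_right_inj y⁻¹, ← mul_left_inj y]; simp only [mul_assoc, inv_mul_cancel_left, inv_mul_cancel, mul_one]
    rw [mem_cj, e]
    exact ⟨fun h => ⟨(mem_normalizer_iff''.1 hy r).2 (DR h), (hV ha a1 (DR h)).2.2 h⟩,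
      fun h => (hV ha a1 (conj_mem_of_mem_normalizer' hy h.1)).2.1 h.2⟩
  have ne := inf_centralizer_ne_bot (p := 2) (R := f.Vs (n - 1) ^ᶜ y) (T := f.W ^ᶜ y')
    (isPGroup_cj (f.pS.to_le (DV.trans VS)) y) (isPGroup_cj (f.pS.to_le WS) y') (le_normalizer_of_cj_le fun c hc r hr => by
      obtain ⟨r, hr', rfl⟩ := mem_cj'.1 hr
      obtain ⟨h1, h2⟩ := (mD r).1 hr'
      obtain ⟨w, hw, rfl⟩ := mem_cj'.1 hc
      have m := conj_mem_of_mem_normalizer (mul_mem (mul_mem hy' (SH (WS hw))) (inv_mem hy')) h1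
      refine (mD _).2 ⟨m, ?_⟩
      have k := key w hw _ m
      generalize y * a * y⁻¹ = x at *
      generalize y' * w * y'⁻¹ = c at *
      calc x * (c * r * c⁻¹) = ⁅x, c⁆ * (c * (x * r) * c⁻¹) := by simp only [commutatorElement_def]; group
        _ = ⁅x, c⁆ * (c * r * c⁻¹) * (c * x * c⁻¹) := by rw [h2]; group
        _ = _ := by rw [← k]; simp only [commutatorElement_def]; group)
    (fun e => f.Z_ne (eq_bot_iff.2 ((f.Vs_anti (Nat.sub_le n 1)).trans (cj_eq_bot_iff.1 e).le)))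
  refine fun e => ne (eq_bot_iff.2 (le_trans (fun r hr => ?_) e.le))
  refine ⟨cj_mono y DV hr.1, mem_cj.2 (fW _ (conj_mem_of_mem_normalizer' hy' ((mD r).1 hr.1).1) ?_)⟩
  exact mem_cj.1 (cj_centralizer f.W y' ▸ hr.2)

end Fr

end H46.Sl
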