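import Cfsg.Agent.Lib.SLM.TI
import Cfsg.Agent.Lib.SLM.RC

/-! Unitriangular Sylow 2-subgroups, package CB: see `blueprint/SLM/README.md`. -/

set_option autoImplicit false
set_option linter.unusedSectionVars false

namespace H46.Sl
open Subgroup H69 Cfsg Matrix
open scoped commutatorElement

namespace Fr
variable {G : Type*} [Group G] [Finite G] {F : Type*} [Field F] [Fintype F] [CharP F 2] {n : ℕ}
  (f : Fr G F n) {E P M : Subgroup G}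

theorem CB_cj {V W : Subgroup G} {a b : G} (g : G) (h : V ^ᶜ (g * a) ⊓ W ^ᶜ (g * b) ≠ ⊥) :
    V ^ᶜ a ⊓ W ^ᶜ b ≠ ⊥ := by
  rw [← cj_cj, ← cj_cj, ← cj_inf] at h
  exact fun e => h (cj_eq_bot_iff.2 e)

theorem CB_tiW (h : f.Ch) {a b d : G} (h1 : d ≠ 1) (ha : d ∈ f.W ^ᶜ a) (hb : d ∈ f.W ^ᶜ b) :
    f.W ^ᶜ a = f.W ^ᶜ b := by
  have := f.dual.ti' h.dual (a := a) (b := b) h1
  rw [show f.dual.V = f.W from f.dual_Vs 0] at this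
  exact this ha hb

theorem CB_Z {g z : G} (h1 : g ∈ 𝐍(f.V)) (h2 : g ∈ 𝐍(f.W)) (hz : z ∉ f.Z) : g * z * g⁻¹ ∉ f.Z := by
  rw [← f.V_inf_W] at hz ⊢
  exact fun h => hz ⟨(mem_normalizer_iff.1 h1 z).2 h.1, (mem_normalizer_iff.1 h2 z).2 h.2⟩

theorem CB_x (h : f.Ch) {e b : G} (he : e ∈ f.Vs (n - 1)) (he' : e ∉ f.Z) (hb : e ∈ f.W ^ᶜ b) :
    ∃ y ∈ 𝐍((f.R 1 ⊓ f.R (n - 1) : Subgroup G)), f.W ^ᶜ b = f.W ^ᶜ y := by
  obtain ⟨x, hx, -, h2⟩ := f.vd_x h.full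
  obtain ⟨s, hs, h3⟩ := h2 e he he'
  have hs' : s⁻¹ ∈ 𝐍((f.R 1 ⊓ f.R (n - 1) : Subgroup G)) := by
    rw [← cj_eq_self_iff, cj_inf, cj_eq_of_mem_normalizer (f.nR 1 (inv_mem hs)),
      cj_eq_of_mem_normalizer (f.nR _ (inv_mem hs))]
  refine ⟨s⁻¹ * x, mul_mem hs' hx.2, f.CB_tiW h (d := e) (fun e1 => he' (by rw [e1]; exact one_mem _)) hb ?_⟩
  have h4 := cj_mem s⁻¹ (cj_mono x (f.V_inf_W.ge.trans inf_le_right) h3)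
  rw [cj_cj] at h4
  simpa [mul_assoc] using h4

theorem CB_fin (h : f.Ch) {a b d e : G} (hd : d ∈ f.Ws (n - 1)) (hd' : d ∉ f.Z) (ha : d ∈ f.V ^ᶜ a)
    (he : e ∈ f.Vs (n - 1)) (he' : e ∉ f.Z) (hb : e ∈ f.W ^ᶜ b) : f.V ^ᶜ a ⊓ f.W ^ᶜ b ≠ ⊥ := by
  have hn := f.hn
  obtain ⟨y', hy', e1⟩ := f.CB_x h he he' hb
  have := f.dual.CB_x h.dual (e := d) (b := a)
  rw [f.dual_Vs, f.dual_Z, show f.dual.W = f.V from f.dual_Ws 0, f.dual_R (j := 1) (by omega),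
    show f.dual.R 1 = f.R (n - 1) by
      rw [← f.dual_R (j := n - 1) (by omega), show n - (n - 1) = 1 by omega], inf_comm] at this
  obtain ⟨y, hy, e2⟩ := this hd hd' ha
  rw [e1, e2]
  exact f.rc hy hy'

theorem cb (h : f.Ch) {a b d e : G} (hd : d ∈ f.W) (hd' : d ∉ f.Z) (ha : d ∈ f.V ^ᶜ a) (he : e ∈ f.V)
    (he' : e ∉ f.Z) (hb : e ∈ f.W ^ᶜ b) (c : d * e = e * d) : f.V ^ᶜ a ⊓ f.W ^ᶜ b ≠ ⊥ := by
  have hn := f.hn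
  have h0 := f.dual.vd_b h.full.dual (v := d)
  rw [show f.dual.V = f.W from f.dual_Vs 0, show f.dual.W = f.V from f.dual_Ws 0, f.dual_Vs] at h0
  obtain ⟨g, ⟨gW, gV⟩, h1⟩ := h0 hd
  have hd1 := f.CB_Z gV gW hd'
  have he1 := f.CB_Z gV gW he'
  have heV : g * e * g⁻¹ ∈ f.V := (mem_normalizer_iff.1 gV e).1 he
  have c1 : (g * d * g⁻¹) * (g * e * g⁻¹) = (g * e * g⁻¹) * (g * d * g⁻¹) := by
    calc _ = g * (d * e) * g⁻¹ := by group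
      _ = _ := by rw [c]; group
  have h2 : g * e * g⁻¹ ∈ f.Vs 1 := by
    have hB := (f.commQ h1.1 heV.1).1 c1
    have hw : f.w (g * d * g⁻¹) = 0 := h1.2.1
    have hu : ∀ i : Fin n, i ≠ f.i0 → f.u (g * d * g⁻¹) i = 0 := fun i hi => h1.2.2.1 i (by
      have : i.val ≠ 0 := fun e0 => hi (Fin.ext e0)
      omega)
    have hu0 : f.u (g * d * g⁻¹) f.i0 ≠ 0 := fun e0 => hd1 (f.mem_Z.2 ⟨h1.1, hw, funext fun i => by
      by_cases hi : i = f.i0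
      · rw [hi]; exact e0
      · exact hu i hi⟩)
    rw [B, hw, zero_dotProduct, zero_add, dotProduct, Finset.sum_eq_single f.i0
      (fun i _ hi => by rw [hu i hi, mul_zero]) (by simp)] at hB
    refine ⟨heV.1, heV.2.1, fun i hi => ?_, fun h3 => by omega⟩
    rw [show i = f.i0 from Fin.ext (by simp [i0]; omega)]
    exact (mul_eq_zero.1 hB).resolve_right hu0
  obtain ⟨k, ⟨⟨kV, kW⟩, kW'⟩, h3⟩ := f.vd_c h.full h2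
  refine CB_cj g (CB_cj k (f.CB_fin h ((mem_normalizer_iff.1 kW' _).1 h1) (f.CB_Z kV kW hd1) ?_ h3
    (f.CB_Z kV kW he1) ?_))
  · rw [← cj_cj, ← cj_cj]; exact cj_mem k (cj_mem g ha)
  · rw [← cj_cj, ← cj_cj]; exact cj_mem k (cj_mem g hb)

theorem key (h : f.Ch) {a b : G} (h1 : f.V ⊓ f.W ^ᶜ b ≠ ⊥) (h2 : f.V ^ᶜ a ⊓ f.W ^ᶜ b ≠ ⊥) (ha : a ∉ 𝐍(f.V)) :
    Nat.card (f.V ⊓ 𝐍(f.V ^ᶜ a) : Subgroup G) = Fintype.card F ^ n ∧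
    ∀ e ∈ f.V ⊓ 𝐍(f.V ^ᶜ a), e ≠ 1 → ∀ c, e ∈ f.W ^ᶜ c → f.V ^ᶜ a ⊓ f.W ^ᶜ c ≠ ⊥ := by
  obtain ⟨g, hg, hb⟩ := f.flag h h1
  have h3 : f.V ^ᶜ (g * a) ⊓ f.W ≠ ⊥ := by
    have := CB_cj (V := f.V) (W := f.W) (a := g * a) (b := g * b) g⁻¹ (by simpa using h2)
    rwa [cj_eq_of_mem_normalizer hb] at this
  obtain ⟨⟨d, hda, hd⟩, d1⟩ := (ne_bot_iff_exists_ne_one).1 h3
  have d1' : d ≠ 1 := fun e0 => d1 (Subtype.ext e0)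
  have hd' : d ∉ f.Z := fun hz => ha (by
    have := f.ti h (g := g * a) (fun e0 => d1' (by
      have : d ∈ f.V ⊓ f.V ^ᶜ (g * a) := ⟨(f.V_inf_W.ge hz).1, hda⟩
      rwa [e0, mem_bot] at this))
    simpa using mul_mem (inv_mem hg) this)
  have hca := f.ca h hd hd' hda
  have hcj : (f.V ⊓ 𝐍(f.V ^ᶜ a)) ^ᶜ g = f.V ⊓ centralizer {d} := by
    rw [cj_inf, cj_normalizer, cj_cj, cj_eq_of_mem_normalizer hg, hca]
  refine ⟨by rw [← card_cj _ g, hcj, f.card_cenV hd hd'], fun e he e1 c hc => CB_cj g ?_⟩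
  have he1 : g * e * g⁻¹ ∈ f.V ⊓ centralizer {d} := hcj ▸ cj_mem g he
  have hc1 : g * e * g⁻¹ ∈ f.W ^ᶜ (g * c) := by rw [← cj_cj]; exact cj_mem g hc
  by_cases hz : g * e * g⁻¹ ∈ f.Z
  · rw [f.CB_tiW h (b := 1) (by simpa using e1) hc1 (by rw [cj_one]; exact (f.V_inf_W.ge hz).2), cj_one]
    exact h3
  · exact f.cb h hd hd' hda he1.1 hz hc1 (mem_centralizer_singleton_iff.1 he1.2).symm

end Fr

end H46.Sl
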