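import Cfsg.Agent.Lib.SLM.CL
import Cfsg.Agent.Lib.SLM.NS
import Cfsg.Agent.Lib.SLM.CHV
import Cfsg.Agent.Lib.SLM.AL
import Cfsg.Agent.S1169
import Cfsg.Agent.S1225

/-! Unitriangular Sylow 2-subgroups, package FU: see `blueprint/SLM/README.md`. -/

set_option autoImplicit false
set_option linter.unusedSectionVars false

namespace H46.Sl
open Subgroup H69 Cfsg Matrix
open scoped commutatorElement

namespace Fr
variable {G : Type*} [Group G] [Finite G] {F : Type*} [Field F] [Fintype F] [CharP F 2] {n : ℕ}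
  (f : Fr G F n) {E P M : Subgroup G}

theorem me_V {k : ℕ} (h : ME f.S (f.U k) P M) (h1 : 1 ≤ k) (hk : k ≤ n) : P ≤ 𝐍(f.V) := by
  obtain ⟨k', hk', e, a, -⟩ := f.cl h
  exact a (f.U_inj hk hk' e ▸ h1)

theorem me_W {k : ℕ} (h : ME f.S (f.U k) P M) (hk : k < n) : P ≤ 𝐍(f.W) := by
  obtain ⟨k', hk', e, -, a⟩ := f.cl h
  exact a (f.U_inj hk.le hk' e ▸ hk)

theorem me_R (h : ME f.S E P M) {j : ℕ} (hj : j ≤ n) (hne : E ≠ f.U j) : P ≤ 𝐍(f.R j) := by
  obtain ⟨k, hk, rfl, a, b⟩ := f.cl h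
  have jk : j ≠ k := fun e => hne (e ▸ rfl)
  have hn := f.hn
  intro g hg
  rcases Nat.eq_zero_or_pos k with rfl | k1
  · rw [← f.dual_R hj]
    refine f.dual.rn (k := n - 0) (by omega) (by omega) (by omega) ?_ ?_
    · rw [f.dual_U hk]; exact h.nE hg
    · rw [V, f.dual_Vs]; exact b (by omega) hg
  · rcases hj.lt_or_eq with j1 | rfl
    · exact f.rn k1 jk j1 (h.nE hg) (a k1 hg)
    · rw [f.R_n]; exact b (by omega) hg

theorem nsR {j : ℕ} (hj : j ≤ n) : 𝐍(f.S) ≤ 𝐍(f.R j) := fun g hg => by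
  rcases hj.lt_or_eq with j1 | rfl
  · exact f.rn (k := n + 1) (by omega) (by omega) j1 (by rwa [f.U_top]) (f.nsV hg)
  · rw [f.R_n]; exact f.nsW hg

theorem ctl {H : Subgroup G} (hV : 𝐍(f.V) ≤ H) (hW : 𝐍(f.W) ≤ H) {y g : G} (hy : y ∈ f.S)
    (hg : g * y * g⁻¹ ∈ H) : ∃ m ∈ H, m * y * m⁻¹ = g * y * g⁻¹ := by
  refine al_ctl f.syl (f.nsV.trans hV) (fun E P M h => ?_) hy hg
  obtain ⟨k, -, -, a, b⟩ := f.cl h
  have hn := f.hn
  rcases Nat.eq_zero_or_pos k with rfl | k1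
  exacts [(b (by omega)).trans hW, (a k1).trans hV]

theorem fu_nc {A : Subgroup G} (h : A ≤ 𝐂(A)) (h1 : f.V ≤ A) (h2 : f.W ≤ A) : False := by
  refine f.V_not_le_W fun v hv => ?_
  have := f.dual.cenV
  rw [V, f.dual_Vs] at this
  exact this ⟨f.Q_le (f.Vs_le 0 hv), centralizer_anti h2 (h (h1 hv))⟩

theorem isFull [IsSimpleGroup G] : f.Full := by
  intro k hk
  by_contra hc
  have hS : f.R k ≤ f.S := fun a ha => (f.mem_R.1 ha).1
  have sc := al_sc f.syl (f.nsR hk) fun E P M h => f.me_R h hk fun e => hc ⟨P, M, e ▸ h⟩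
  have cm : ∀ a ∈ f.R k, ∀ b ∈ f.R k, a * b = b * a := fun a ha b hb => by
    rw [← inv_eq_of_mul_eq_one_right (f.R_sq (mul_mem ha hb)), _root_.mul_inv_rev,
      inv_eq_of_mul_eq_one_right (f.R_sq ha), inv_eq_of_mul_eq_one_right (f.R_sq hb)]
  obtain ⟨S, eS⟩ := f.syl.exists_sylow_top
  rcases Cfsg.Agent.S1169.result S (f.R k) (fun e => f.Z_ne (le_bot_iff.1 (e ▸ f.Z_le_R hk)))
    ⟨⟨fun a b => Subtype.ext (cm a a.2 b b.2)⟩⟩
    ⟨eS ▸ hS, fun x hx g hg => sc g x hx (hS hx) (eS ▸ hg)⟩ with h | ⟨H, hH⟩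
  · rw [eS] at h
    exact f.fu_nc (A := f.S) (fun a ha => mem_centralizer_iff_commute.2 fun b hb =>
      congrArg Subtype.val (h.is_comm.comm ⟨b, hb⟩ ⟨a, ha⟩)) ((f.Vs_le 0).trans f.Q_le)
      ((f.Ws_le 0).trans f.Q_le)
  · obtain ⟨s, hs⟩ := exists_prime_orderOf_dvd_card' (G := H) 2 hH.2.1.two_dvd
    obtain ⟨g, hg⟩ : ∃ g, g ∉ H := by
      by_contra! k'
      exact hH.1 ((eq_top_iff' H).2 k')
    have hs' : orderOf (s : G) = 2 := by rw [Subgroup.orderOf_coe, hs]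
    have hu : orderOf (g * s * g⁻¹) = 2 := by
      rw [← hs']; exact (MulAut.conj g).orderOf_eq (s : G)
    have one := (Cfsg.Agent.S1225.result H hH _ hu (fun m => by
      have := (H ⊓ H.map (MulAut.conj g).toMonoidHom : Subgroup G).orderOf_dvd_natCard
        (x := g * s * g⁻¹) ⟨m, s, s.2, rfl⟩
      rw [hu] at this
      exact (Nat.not_even_iff_odd.2 (hH.2.2 g hg)) (even_iff_two_dvd.2 this)) s s hs' s.2 hs' s.2).2
    obtain ⟨z, z1⟩ := (Subgroup.ne_bot_iff_exists_ne_one.1 f.Z_ne)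
    have z1' : (z : G) ≠ 1 := fun e => z1 (Subtype.ext e)
    have zR := f.Z_le_R hk z.2
    have all : ∀ a ∈ f.S, a * a = 1 → a ∈ f.R k := fun a ha h2 => by
      by_cases a1 : a = 1
      · exact a1 ▸ one_mem _
      obtain ⟨c, hc⟩ := isConj_iff.1 (one z a (orderOf_eq_prime (by rw [pow_two, f.R_sq zR]) z1')
        (orderOf_eq_prime (by rw [pow_two, h2]) a1))
      exact hc ▸ sc c z zR (hS zR) (hc ▸ ha)
    exact f.fu_nc (A := f.R k) (fun a ha => mem_centralizer_iff_commute.2 fun b hb => cm b hb a ha)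
      (fun v hv => all v (f.Q_le (f.Vs_le 0 hv)) (f.V_sq hv))
      fun v hv => all v (f.Q_le (f.Ws_le 0 hv)) (f.W_sq hv)

end Fr

end H46.Sl
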