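import Cfsg.Agent.Lib.SLM.NAT
import Cfsg.Agent.Lib.SLM.FU

/-! Unitriangular Sylow 2-subgroups, package VD: see `blueprint/SLM/README.md`. -/

set_option autoImplicit false
set_option linter.unusedSectionVars false

namespace H46.Sl
open Subgroup H69 Cfsg Matrix
open scoped commutatorElement

namespace Fr
variable {G : Type*} [Group G] [Finite G] {F : Type*} [Field F] [Fintype F] [CharP F 2] {n : ℕ}
  (f : Fr G F n) {E P M : Subgroup G}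

theorem VD_chain (h : f.Full) {H : Subgroup G} {a b : ℕ} (hb : b ≤ n)
    (hH : ∀ k, a < k → k ≤ b → ∀ P M, ME f.S (f.U k) P M → P ≤ H) (d : ℕ) :
    ∀ j, j + d = b → a ≤ j → ∀ v ∈ f.Vs j, ∃ g ∈ H, g * v * g⁻¹ ∈ f.Vs b := by
  induction d with
  | zero =>
    intro j hj _ v hv
    refine ⟨1, one_mem _, ?_⟩
    rw [← hj]
    simpa using hv
  | succ d ih =>
    intro j hj ha v hv
    by_cases hv' : v ∈ f.Vs (j + 1)
    · exact ih (j + 1) (by omega) (by omega) v hv'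
    · obtain ⟨P, M, hme⟩ := h (j + 1) (by omega)
      obtain ⟨g, hg, h1, -⟩ := f.step hme (by omega) (by omega) (f.me_V hme (by omega) (by omega))
        (v := v) (by simpa using hv) hv'
      obtain ⟨g', hg', h2⟩ := ih (j + 1) (by omega) (by omega) _ h1
      refine ⟨g' * g, mul_mem hg' (hH (j + 1) (by omega) (by omega) P M hme hg), ?_⟩
      have e : g' * g * v * (g' * g)⁻¹ = g' * (g * v * g⁻¹) * g'⁻¹ := by group
      rw [e]
      exact h2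

theorem vd_a (h : f.Full) {v : G} (hv : v ∈ f.V) : ∃ g ∈ 𝐍(f.V), g * v * g⁻¹ ∈ f.Z :=
  f.VD_chain h (a := 0) (b := n) le_rfl (fun _ h1 h2 _ _ hme => f.me_V hme h1 h2) n 0 (by omega) le_rfl v hv

theorem vd_b (h : f.Full) {v : G} (hv : v ∈ f.V) : ∃ g ∈ 𝐍(f.V) ⊓ 𝐍(f.W), g * v * g⁻¹ ∈ f.Vs (n - 1) := by
  have := f.hn
  exact f.VD_chain h (a := 0) (b := n - 1) (by omega)
    (fun _ h1 h2 _ _ hme => le_inf (f.me_V hme h1 (by omega)) (f.me_W hme (by omega))) (n - 1) 0 (by omega)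
    le_rfl v hv

theorem vd_c (h : f.Full) {v : G} (hv : v ∈ f.Vs 1) :
    ∃ g ∈ 𝐍(f.V) ⊓ 𝐍(f.W) ⊓ 𝐍(f.Ws (n - 1)), g * v * g⁻¹ ∈ f.Vs (n - 1) := by
  have := f.hn
  refine f.VD_chain h (a := 1) (b := n - 1) (by omega) (fun k h1 h2 P M hme => ?_) (n - 2) 1 (by omega)
    le_rfl v hv
  have hW := f.me_W hme (by omega)
  refine le_inf (le_inf (f.me_V hme (by omega) (by omega)) hW) fun g hg => ?_
  rw [← f.dual_Vs]
  refine f.dual.chv (k := n - k) (by omega) (by omega) ?_ ?_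
  · rw [f.dual_U (by omega)]
    exact hme.nE hg
  · change g ∈ 𝐍(f.dual.Vs 0)
    rw [f.dual_Vs]
    exact hW hg

theorem vd_x (h : f.Full) : ∃ x ∈ 𝐍(f.V) ⊓ 𝐍((f.R 1 ⊓ f.R (n - 1) : Subgroup G)), f.Z ⊓ f.Z ^ᶜ x = ⊥ ∧
    ∀ v ∈ f.Vs (n - 1), v ∉ f.Z → ∃ s ∈ f.S, s * v * s⁻¹ ∈ f.Z ^ᶜ x := by
  have hn := f.hn
  obtain ⟨P, M, hme⟩ := h n le_rfl
  obtain ⟨x, hx, hM⟩ := hme.ex_x
  have hV := f.me_V hme (by omega) le_rfl
  have h1 : x ∈ 𝐍(f.R 1) := f.me_R hme (by omega)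
    (fun e => by have := f.U_inj le_rfl (by omega) e; omega) hx
  have h2 : x ∈ 𝐍(f.R (n - 1)) := f.me_R hme (by omega)
    (fun e => by have := f.U_inj le_rfl (by omega) e; omega) hx
  obtain ⟨n1, n2⟩ := f.nat hme (by omega) le_rfl hV hx hM
  refine ⟨x, ⟨hV hx, ?_⟩, ?_, fun v hv hv' => ?_⟩
  · change x ∈ 𝐍((f.R 1 ⊓ f.R (n - 1) : Subgroup G))
    rw [← cj_eq_self_iff, cj_inf, cj_eq_of_mem_normalizer h1, cj_eq_of_mem_normalizer h2]
  · rw [f.Vs_top (Nat.lt_succ_self n)] at n1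
    exact le_bot_iff.1 n1
  · obtain ⟨p, hp, hpv⟩ := n2 v hv
    have e : n - 1 + 1 = n := by omega
    obtain ⟨s, hs, es⟩ := f.orbVs (j := n - 1) (v' := p) hv (by rw [e]; exact hv') (by
      rw [e]
      have := inv_mem hpv
      rwa [_root_.mul_inv_rev, inv_inv] at this)
    exact ⟨s, hs, es ▸ hp⟩

theorem ex_nS (h : f.Full) : ∃ x ∈ 𝐍(f.V), x ∉ 𝐍(f.S) := by
  obtain ⟨x, hx, h1, -⟩ := f.vd_x h
  refine ⟨x, hx.1, fun hS => f.Z_ne ?_⟩
  rwa [cj_eq_of_mem_normalizer (f.nsZ hS), inf_idem] at h1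

end Fr

end H46.Sl
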