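import Cfsg.Agent.Lib.SLM.VD

/-! Unitriangular Sylow 2-subgroups, package TI: see `blueprint/SLM/README.md`. -/

set_option autoImplicit false
set_option linter.unusedSectionVars false

namespace H46.Sl
open Subgroup H69 Cfsg Matrix
open scoped commutatorElement

namespace Fr
variable {G : Type*} [Group G] [Finite G] {F : Type*} [Field F] [Fintype F] [CharP F 2] {n : ℕ}
  (f : Fr G F n) {E P M : Subgroup G}

theorem ti_ne {G : Type*} [Group G] {a : G} (g : G) (h : a ≠ 1) : g * a * g⁻¹ ≠ 1 := fun e =>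
  h (by rw [mul_inv_eq_one] at e; exact mul_eq_left.1 e)

theorem ti_ex {G : Type*} [Group G] {A B : Subgroup G} : A ⊓ B ≠ ⊥ ↔ ∃ d, d ∈ A ∧ d ∈ B ∧ d ≠ 1 := by
  rw [ne_eq, eq_bot_iff_forall]
  push Not
  exact ⟨fun ⟨d, h, h1⟩ => ⟨d, h.1, h.2, h1⟩, fun ⟨d, a, b, h1⟩ => ⟨d, ⟨a, b⟩, h1⟩⟩

theorem ti0 (h : f.Ch) {z g : G} (hz : z ∈ f.Z) (h1 : z ≠ 1) (hg : g * z * g⁻¹ ∈ f.Z) : g ∈ 𝐍(f.V) ⊓ 𝐍(f.W) := by
  have : Fact (Nat.Prime 2) := ⟨Nat.prime_two⟩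
  have k : ∀ x ∈ f.Z, f.S ≤ centralizer {x} := fun x hx s hs =>
    mem_centralizer_singleton_iff.2 (f.Z_cen hx s hs)
  have s1 : IsSylowIn 2 f.S (centralizer {g * z * g⁻¹}) := f.syl.mono (k _ hg) le_top
  have s2 : IsSylowIn 2 (f.S ^ᶜ g) (centralizer {g * z * g⁻¹}) := (f.syl.cj_of_mem (mem_top g)).mono
    (cj_centralizer_singleton z g ▸ cj_mono g (k z hz)) le_top
  obtain ⟨c, hc, e⟩ := s2.conj s1
  rw [cj_cj, cj_eq_self_iff] at e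
  exact (mul_mem_cancel_left (h.cz _ hg (ti_ne g h1) hc)).1 ⟨f.nsV e, f.nsW e⟩

theorem cv (h : f.Ch) {v : G} (hv : v ∈ f.V) (h1 : v ≠ 1) : centralizer {v} ≤ 𝐍(f.V) := by
  obtain ⟨g, hg, hz⟩ := f.vd_a h.full hv
  intro x hx
  have := (h.cz _ hz (ti_ne g h1) (cj_centralizer_singleton v g ▸ cj_mem g hx)).1
  exact (mul_mem_cancel_left hg).1 ((mul_mem_cancel_right (inv_mem hg)).1 this)

theorem ti (h : f.Ch) {g : G} (hg : f.V ⊓ f.V ^ᶜ g ≠ ⊥) : g ∈ 𝐍(f.V) := by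
  obtain ⟨d, hd, hd', h1⟩ := ti_ex.1 hg
  obtain ⟨v, hv, rfl⟩ := mem_cj'.1 hd'
  obtain ⟨a, ha, ha'⟩ := f.vd_a h.full hd
  obtain ⟨b, hb, hb'⟩ := f.vd_a h.full hv
  have v1 : v ≠ 1 := fun e => h1 (by rw [e, mul_one, mul_inv_cancel])
  have := (f.ti0 h (g := a * g * b⁻¹) hb' (ti_ne b v1) (by convert ha' using 1; group)).1
  exact (mul_mem_cancel_left ha).1 ((mul_mem_cancel_right (inv_mem hb)).1 this)

theorem ti' (h : f.Ch) {a b d : G} (h1 : d ≠ 1) (ha : d ∈ f.V ^ᶜ a) (hb : d ∈ f.V ^ᶜ b) : f.V ^ᶜ a = f.V ^ᶜ b := by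
  have := f.ti h (g := a⁻¹ * b) (ti_ex.2 ⟨a⁻¹ * d * a⁻¹⁻¹, by rw [inv_inv]; exact mem_cj.1 ha,
    cj_cj f.V b a⁻¹ ▸ cj_mem a⁻¹ hb, ti_ne _ h1⟩)
  rw [← cj_eq_self_iff, ← cj_cj, cj_eq_iff, inv_inv] at this
  exact this.symm

theorem flag (h : f.Ch) {b : G} (hb : f.V ⊓ f.W ^ᶜ b ≠ ⊥) : ∃ g ∈ 𝐍(f.V), g * b ∈ 𝐍(f.W) := by
  obtain ⟨d, hd, hd', h1⟩ := ti_ex.1 hb
  obtain ⟨g, hg, hz⟩ := f.vd_a h.full hd
  refine ⟨g, hg, ?_⟩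
  have := f.dual.ti h.dual (g := g * b)
  simp only [V, f.dual_Vs] at this
  exact this (ti_ex.2 ⟨_, (f.V_inf_W.ge hz).2, cj_cj f.W b g ▸ cj_mem g hd', ti_ne g h1⟩)

theorem ca (h : f.Ch) {a d : G} (hd : d ∈ f.W) (h1 : d ∉ f.Z) (ha : d ∈ f.V ^ᶜ a) :
    f.V ⊓ 𝐍(f.V ^ᶜ a) = f.V ⊓ centralizer {d} := by
  have d1 : d ≠ 1 := fun e => h1 (e ▸ one_mem _)
  apply le_antisymm
  · refine fun v hv => ⟨hv.1, by_contra fun hn => ?_⟩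
    have k : ⁅v, d⁆ ≠ 1 := fun e =>
      hn (mem_centralizer_singleton_iff.2 (commutatorElement_eq_one_iff_mul_comm.1 e))
    have := f.ti h (g := a) (ti_ex.2 ⟨⁅v, d⁆, (f.V_inf_W.ge (f.cmQQ (f.Vs_le 0 hv.1) (f.Ws_le 0 hd)).1).1,
      mul_mem (conj_mem_of_mem_normalizer hv.2 ha) (inv_mem ha), k⟩)
    rw [cj_eq_of_mem_normalizer this] at ha
    exact h1 (f.V_inf_W.le ⟨ha, hd⟩)
  · obtain ⟨v, hv, rfl⟩ := mem_cj'.1 ha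
    apply inf_le_inf_left
    rw [← cj_centralizer_singleton, ← cj_normalizer]
    exact cj_mono a (f.cv h hv fun e => d1 (by rw [e, mul_one, mul_inv_cancel]))

end Fr

end H46.Sl
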